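import Groth.Agent.Lib.KoszulH13.KoszulLim

/-!
Transport of Koszul colimit cohomology along a ring isomorphism and a semilinear isomorphism.
-/

set_option autoImplicit false
set_option backward.isDefEq.respectTransparency false
set_option backward.isDefEq.respectTransparency.types false
set_option maxHeartbeats 1000000

universe u

open CategoryTheory CategoryTheory.Limits CochainComplex
open Groth.Agent.ExtCechLib

noncomputable section

namespace Groth.Agent.KoszulTransp8

open KoszulH13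

variable {A B : Type u} [CommRing A] [CommRing B] (σ : A ≃+* B) (M : ModuleCat.{u} A) (M' : ModuleCat.{u} B)
  (g : M ≃+ M')

/-- The comparison in each degree. -/
def ψ (n : ℕ) : ∀ (fs : List A) (q : ℤ), (K M (pw fs n)).X q →+ (K M' (pw (fs.map σ) n)).X q
  | [], q => if h : q = 0 then
      (((HomologicalComplex.singleObjXIsoOfEq (ComplexShape.up ℤ) 0 M' q h).inv.hom.toAddMonoidHom.comp
        g.toAddMonoidHom).comp
        (HomologicalComplex.singleObjXIsoOfEq (ComplexShape.up ℤ) 0 M q h).hom.hom.toAddMonoidHom) else 0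
  | f :: fs, q =>
      AddMonoidHom.mk' (fun (z : (mappingCone (φK M f fs n)).X q) => cMk (φK M' (σ f) (fs.map σ) n) q (q + 1) rfl
          (ψ n fs (q + 1) (cA (φK M f fs n) q (q + 1) rfl z)) (ψ n fs q (cB (φK M f fs n) q z)))
        fun (z z' : (mappingCone (φK M f fs n)).X q) => by
          refine cone_ext (φK M' (σ f) (fs.map σ) n) rfl ?_ ?_
          · refine (cA_cMk _ _ _ _ _ _).trans ((congrArg _ (map_add (cA (φK M f fs n) q (q + 1) rfl) z z')).trans
              ((map_add _ _ _).trans (Eq.symm ?_)))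
            exact (map_add _ _ _).trans (congrArg₂ (· + ·) (cA_cMk _ _ _ rfl _ _) (cA_cMk _ _ _ rfl _ _))
          · refine (cB_cMk _ _ _ _ _ _).trans ((congrArg _ (map_add (cB (φK M f fs n) q) z z')).trans
              ((map_add _ _ _).trans (Eq.symm ?_)))
            exact (map_add _ _ _).trans (congrArg₂ (· + ·) (cB_cMk _ _ (q + 1) rfl _ _) (cB_cMk _ _ (q + 1) rfl _ _))

theorem cA_ψ (n : ℕ) (f : A) (fs : List A) (q : ℤ) (z : (mappingCone (φK M f fs n)).X q) :
    cA (φK M' (σ f) (fs.map σ) n) q (q + 1) rfl (ψ σ M M' g n (f :: fs) q z) =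
      ψ σ M M' g n fs (q + 1) (cA (φK M f fs n) q (q + 1) rfl z) := cA_cMk _ _ _ rfl _ _

theorem cB_ψ (n : ℕ) (f : A) (fs : List A) (q : ℤ) (z : (mappingCone (φK M f fs n)).X q) :
    cB (φK M' (σ f) (fs.map σ) n) q (ψ σ M M' g n (f :: fs) q z) =
      ψ σ M M' g n fs q (cB (φK M f fs n) q z) := cB_cMk _ _ (q + 1) rfl _ _

section
variable (hg : ∀ (a : A) (x : M), g (a • x) = σ a • g x)

include hg

theorem ψ_smul (n : ℕ) : ∀ (fs : List A) (q : ℤ) (a : A) (x : (K M (pw fs n)).X q),
    ψ σ M M' g n fs q (a • x) = σ a • ψ σ M M' g n fs q x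
  | [], q, a, x => by
    by_cases h : q = 0
    · have e : ∀ y : (K M (pw ([] : List A) n)).X q, ψ σ M M' g n [] q y =
          (HomologicalComplex.singleObjXIsoOfEq (ComplexShape.up ℤ) 0 M' q h).inv.hom
            (g ((HomologicalComplex.singleObjXIsoOfEq (ComplexShape.up ℤ) 0 M q h).hom.hom y)) := fun y => by
        simp only [ψ, dif_pos h]
        rfl
      rw [e, e]
      exact (congrArg (fun y => (HomologicalComplex.singleObjXIsoOfEq (ComplexShape.up ℤ) 0 M' q h).inv.hom (g y))
        (map_smul _ a x)).trans ((congrArg _ (hg a _)).trans (map_smul _ _ _))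
    · simp only [ψ, dif_neg h, AddMonoidHom.zero_apply, smul_zero]
  | f :: fs, q, a, (z : (mappingCone (φK M f fs n)).X q) => by
    refine cone_ext (φK M' (σ f) (fs.map σ) n) rfl ?_ ?_
    · exact (cA_ψ σ M M' g n f fs q (a • z)).trans ((congrArg _ (map_smul (cA (φK M f fs n) q (q + 1) rfl) a z)).trans
        ((ψ_smul n fs (q + 1) a _).trans ((congrArg (σ a • ·) (cA_ψ σ M M' g n f fs q z).symm).trans
          (map_smul (cA (φK M' (σ f) (fs.map σ) n) q (q + 1) rfl) (σ a) _).symm)))
    · exact (cB_ψ σ M M' g n f fs q (a • z)).trans ((congrArg _ (map_smul (cB (φK M f fs n) q) a z)).trans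
        ((ψ_smul n fs q a _).trans ((congrArg (σ a • ·) (cB_ψ σ M M' g n f fs q z).symm).trans
          (map_smul (cB (φK M' (σ f) (fs.map σ) n) q) (σ a) _).symm)))

theorem ψ_dd (n : ℕ) : ∀ (fs : List A) (i j : ℤ) (_ : i + 1 = j) (x : (K M (pw fs n)).X i),
    ψ σ M M' g n fs j (dd (K M (pw fs n)) i j x) = dd (K M' (pw (fs.map σ) n)) i j (ψ σ M M' g n fs i x)
  | [], i, j, hij, x => by
    have h1 : dd (K M (pw ([] : List A) n)) i j = 0 := rfl
    have h2 : dd (K M' (pw (([] : List A).map σ) n)) i j = 0 := rfl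
    rw [h1, h2, LinearMap.zero_apply, LinearMap.zero_apply, map_zero]
  | f :: fs, i, _, rfl, (z : (mappingCone (φK M f fs n)).X i) => by
    refine cone_ext (φK M' (σ f) (fs.map σ) n) rfl ?_ ?_
    · refine (cA_ψ σ M M' g n f fs (i + 1) _).trans ?_
      refine Eq.trans ?_ (cA_d _ i (i + 1) (i + 1 + 1) rfl rfl _).symm
      refine (congrArg _ (cA_d (φK M f fs n) i (i + 1) (i + 1 + 1) rfl rfl z)).trans ?_
      rw [map_neg, ψ_dd n fs (i + 1) (i + 1 + 1) rfl, cA_ψ σ M M' g n f fs i z]
    · refine (cB_ψ σ M M' g n f fs (i + 1) _).trans ?_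
      refine Eq.trans ?_ (cB_d _ i (i + 1) rfl _).symm
      refine (congrArg _ (cB_d (φK M f fs n) i (i + 1) rfl z)).trans ?_
      rw [map_add, ψ_dd n fs i (i + 1) rfl, cA_ψ σ M M' g n f fs i z, cB_ψ σ M M' g n f fs i z, φf_apply,
        φf_apply, ψ_smul σ M M' g hg n fs, map_pow]

theorem ψ_tr {n m : ℕ} (h : n ≤ m) : ∀ (fs : List A) (q : ℤ) (x : (K M (pw fs n)).X q),
    ψ σ M M' g m fs q (tr M h fs q x) = tr M' h (fs.map σ) q (ψ σ M M' g n fs q x)
  | [], q, x => rfl
  | f :: fs, q, (z : (mappingCone (φK M f fs n)).X q) => by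
    refine cone_ext (φK M' (σ f) (fs.map σ) m) rfl ?_ ?_
    · refine (cA_ψ σ M M' g m f fs q _).trans ?_
      refine Eq.trans ?_ (tr_cons M' (σ f) (fs.map σ) h q _).1.symm
      rw [cA_ψ σ M M' g n f fs q z]
      exact (congrArg _ (tr_cons M f fs h q z).1).trans (ψ_tr h fs _ _)
    · refine (cB_ψ σ M M' g m f fs q _).trans ?_
      refine Eq.trans ?_ (tr_cons M' (σ f) (fs.map σ) h q _).2.symm
      rw [cB_ψ σ M M' g n f fs q z]
      refine (congrArg _ (tr_cons M f fs h q z).2).trans ?_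
      rw [ψ_smul σ M M' g hg m fs, map_pow]
      exact congrArg _ (ψ_tr h fs _ _)

omit hg in
theorem ψ_bijective (n : ℕ) : ∀ (fs : List A) (q : ℤ), Function.Bijective (ψ σ M M' g n fs q)
  | [], q => by
    by_cases h : q = 0
    · simp only [ψ, dif_pos h]
      exact ((HomologicalComplex.singleObjXIsoOfEq (ComplexShape.up ℤ) 0 M' q h).symm.toLinearEquiv.bijective.comp
        g.bijective).comp (HomologicalComplex.singleObjXIsoOfEq (ComplexShape.up ℤ) 0 M q h).toLinearEquiv.bijective
    · haveI : Subsingleton ((K M (pw ([] : List A) n)).X q) :=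
        ModuleCat.subsingleton_of_isZero (HomologicalComplex.isZero_single_obj_X (ComplexShape.up ℤ) 0 M q h)
      haveI : Subsingleton ((K M' (pw (([] : List A).map σ) n)).X q) :=
        ModuleCat.subsingleton_of_isZero (HomologicalComplex.isZero_single_obj_X (ComplexShape.up ℤ) 0 M' q h)
      exact ⟨Function.injective_of_subsingleton _, fun y => ⟨0, Subsingleton.elim _ _⟩⟩
  | f :: fs, q => by
    refine ⟨fun (z z' : (mappingCone (φK M f fs n)).X q) e => ?_,
      fun (w : (mappingCone (φK M' (σ f) (fs.map σ) n)).X q) => ?_⟩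
    · refine cone_ext _ rfl ((ψ_bijective n fs (q + 1)).1 ?_) ((ψ_bijective n fs q).1 ?_)
      · rw [← cA_ψ σ M M' g n f fs q z, ← cA_ψ σ M M' g n f fs q z']; exact congrArg _ e
      · rw [← cB_ψ σ M M' g n f fs q z, ← cB_ψ σ M M' g n f fs q z']; exact congrArg _ e
    · obtain ⟨a, ha⟩ := (ψ_bijective n fs (q + 1)).2 (cA (φK M' (σ f) (fs.map σ) n) q (q + 1) rfl w)
      obtain ⟨b, hb⟩ := (ψ_bijective n fs q).2 (cB (φK M' (σ f) (fs.map σ) n) q w)
      refine ⟨cMk (φK M f fs n) q (q + 1) rfl a b, cone_ext (φK M' (σ f) (fs.map σ) n) rfl ?_ ?_⟩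
      · rw [cA_ψ σ M M' g n f fs q _, cA_cMk, ha]
      · rw [cB_ψ σ M M' g n f fs q _, cB_cMk, hb]

variable (fs : List A) (q : ℤ)

theorem ψ_mem_Cy (n : ℕ) (x : (K M (pw fs n)).X q) :
    ψ σ M M' g n fs q x ∈ Cy (K M' (pw (fs.map σ) n)) q ↔ x ∈ Cy (K M (pw fs n)) q := by
  rw [mem_Cy _ rfl, mem_Cy _ rfl, ← ψ_dd σ M M' g hg n fs q (q + 1) rfl]
  exact map_eq_zero_iff _ (ψ_bijective σ M M' g n fs (q + 1)).1

theorem ψ_mem_Bd (n : ℕ) (x : (K M (pw fs n)).X q) :
    ψ σ M M' g n fs q x ∈ Bd (K M' (pw (fs.map σ) n)) q ↔ x ∈ Bd (K M (pw fs n)) q := by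
  rw [mem_Bd _ (sub_add_cancel q 1), mem_Bd _ (sub_add_cancel q 1)]
  constructor
  · rintro ⟨y, hy⟩
    obtain ⟨y, rfl⟩ := (ψ_bijective σ M M' g n fs (q - 1)).2 y
    exact ⟨y, (ψ_bijective σ M M' g n fs q).1 ((ψ_dd σ M M' g hg n fs _ _ (sub_add_cancel q 1) y).trans hy)⟩
  · rintro ⟨y, rfl⟩
    exact ⟨_, (ψ_dd σ M M' g hg n fs _ _ (sub_add_cancel q 1) y).symm⟩

/-- Comparison on cycles followed by the class. -/
def ρ (n : ℕ) : Cy (K M (pw fs n)) q →+ (K M' (pw (fs.map σ) n)).homology q :=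
  (hClass (K M' (pw (fs.map σ) n)) q).toAddMonoidHom.comp
    (AddMonoidHom.mk' (fun x => (⟨ψ σ M M' g n fs q x.1, (ψ_mem_Cy σ M M' g hg fs q n x.1).2 x.2⟩ :
      Cy (K M' (pw (fs.map σ) n)) q)) fun x y => Subtype.ext (map_add _ x.1 y.1))

theorem ρ_congr (n : ℕ) (x y : Cy (K M (pw fs n)) q) (e : hClass _ q x = hClass _ q y) :
    ρ σ M M' g hg fs q n x = ρ σ M M' g hg fs q n y := by
  rw [← sub_eq_zero, ← map_sub] at e ⊢
  exact (hClass_eq_zero_iff _ _ _).2 ((ψ_mem_Bd σ M M' g hg fs q n _).2 ((hClass_eq_zero_iff _ _ _).1 e))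

/-- Comparison on homology. -/
def ψH (n : ℕ) : (K M (pw fs n)).homology q →+ (K M' (pw (fs.map σ) n)).homology q :=
  AddMonoidHom.mk' (fun η => ρ σ M M' g hg fs q n (Function.surjInv (hClass_surjective _ q) η))
    fun η η' => by
      rw [← map_add]
      refine ρ_congr σ M M' g hg fs q n _ _ ?_
      exact (Function.surjInv_eq (hClass_surjective _ q) (η + η')).trans ((map_add (hClass _ q) _ _).trans
        (congrArg₂ (· + ·) (Function.surjInv_eq (hClass_surjective _ q) η) (Function.surjInv_eq (hClass_surjective _ q) η'))).symm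

theorem ψH_hClass (n : ℕ) (x : Cy (K M (pw fs n)) q) :
    ψH σ M M' g hg fs q n (hClass _ q x) = ρ σ M M' g hg fs q n x :=
  ρ_congr σ M M' g hg fs q n _ _ (Function.surjInv_eq _ _)

theorem ψH_bijective (n : ℕ) : Function.Bijective (ψH σ M M' g hg fs q n) := by
  refine ⟨(injective_iff_map_eq_zero _).2 fun η hη => ?_, fun η => ?_⟩
  · obtain ⟨x, rfl⟩ := hClass_surjective _ _ η
    rw [ψH_hClass] at hη
    exact (hClass_eq_zero_iff _ _ _).2 ((ψ_mem_Bd σ M M' g hg fs q n x.1).1 ((hClass_eq_zero_iff _ _ _).1 hη))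
  · obtain ⟨⟨y, hy⟩, rfl⟩ := hClass_surjective _ _ η
    obtain ⟨x, rfl⟩ := (ψ_bijective σ M M' g n fs q).2 y
    exact ⟨hClass _ q ⟨x, (ψ_mem_Cy σ M M' g hg fs q n x).1 hy⟩, ψH_hClass σ M M' g hg fs q n _⟩

theorem ψH_smul (n : ℕ) (a : A) (η : (K M (pw fs n)).homology q) :
    ψH σ M M' g hg fs q n (a • η) = σ a • ψH σ M M' g hg fs q n η := by
  obtain ⟨x, rfl⟩ := hClass_surjective _ _ η
  rw [← map_smul, ψH_hClass, ψH_hClass]
  show hClass _ q _ = σ a • hClass _ q _
  rw [← map_smul]
  exact congrArg _ (Subtype.ext (ψ_smul σ M M' g hg n fs q a x.1))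

theorem ψH_tr (n m : ℕ) (h : n ≤ m) (η : (K M (pw fs n)).homology q) :
    ψH σ M M' g hg fs q m (trH M fs q n m h η) = trH M' (fs.map σ) q n m h (ψH σ M M' g hg fs q n η) := by
  obtain ⟨x, rfl⟩ := hClass_surjective _ _ η
  rw [trH_hClass, ψH_hClass, ψH_hClass]
  refine Eq.trans ?_ (trH_hClass M' (fs.map σ) q h _).symm
  exact congrArg (hClass (K M' (pw (fs.map σ) m)) q) (Subtype.ext (ψ_tr σ M M' g hg h fs q x.1))

theorem nonempty_lim_addEquiv :
    Nonempty (Module.DirectLimit (fun n : ℕ => ((K M (pw fs n)).homology q : Type u)) (trH M fs q) ≃+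
      Module.DirectLimit (fun n : ℕ => ((K M' (pw (fs.map σ) n)).homology q : Type u)) (trH M' (fs.map σ) q)) := by
  let GA := fun n : ℕ => ((K M (pw fs n)).homology q : Type u)
  let GB := fun n : ℕ => ((K M' (pw (fs.map σ) n)).homology q : Type u)
  let S := Module.DirectLimit GA (trH M fs q)
  let T := Module.DirectLimit GB (trH M' (fs.map σ) q)
  let e := fun n => AddEquiv.ofBijective (ψH σ M M' g hg fs q n) (ψH_bijective σ M M' g hg fs q n)
  letI : Module A T := Module.compHom T σ.toRingHom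
  letI : Module B S := Module.compHom S σ.symm.toRingHom
  let L : S →ₗ[A] T :=
    (Module.DirectLimit.lift A ℕ GA (trH M fs q)
      (fun n =>
        { toFun := fun η => Module.DirectLimit.of B ℕ GB (trH M' (fs.map σ) q) n (e n η)
          map_add' := fun η η' => by rw [map_add, map_add]
          map_smul' := fun a η => by
            rw [show e n (a • η) = σ a • e n η from ψH_smul σ M M' g hg fs q n a η, map_smul]
            rfl })
      fun n m h η => by
        show Module.DirectLimit.of B ℕ GB _ m (e m (trH M fs q n m h η)) =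
          Module.DirectLimit.of B ℕ GB _ n (e n η)
        rw [show e m (trH M fs q n m h η) = trH M' (fs.map σ) q n m h (e n η) from
          ψH_tr σ M M' g hg fs q n m h η, Module.DirectLimit.of_f])
  let R : T →ₗ[B] S :=
    (Module.DirectLimit.lift B ℕ GB (trH M' (fs.map σ) q)
      (fun n =>
        { toFun := fun η => Module.DirectLimit.of A ℕ GA (trH M fs q) n ((e n).symm η)
          map_add' := fun η η' => by rw [map_add, map_add]
          map_smul' := fun b η => by
            rw [show (e n).symm (b • η) = σ.symm b • (e n).symm η from by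
              rw [AddEquiv.symm_apply_eq]
              refine Eq.trans ?_ (ψH_smul σ M M' g hg fs q n (σ.symm b) ((e n).symm η)).symm
              rw [RingEquiv.apply_symm_apply]
              exact congrArg (b • ·) ((e n).apply_symm_apply η).symm, map_smul]
            rfl })
      fun n m h η => by
        show Module.DirectLimit.of A ℕ GA _ m ((e m).symm (trH M' (fs.map σ) q n m h η)) =
          Module.DirectLimit.of A ℕ GA _ n ((e n).symm η)
        rw [show (e m).symm (trH M' (fs.map σ) q n m h η) = trH M fs q n m h ((e n).symm η) from by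
          rw [AddEquiv.symm_apply_eq]
          refine Eq.trans ?_ (ψH_tr σ M M' g hg fs q n m h ((e n).symm η)).symm
          exact congrArg _ ((e n).apply_symm_apply η).symm, Module.DirectLimit.of_f])
  have hL : ∀ n η, L (Module.DirectLimit.of A ℕ GA (trH M fs q) n η) =
      Module.DirectLimit.of B ℕ GB (trH M' (fs.map σ) q) n (e n η) := fun n η =>
    Module.DirectLimit.lift_of (R := A) (G := GA) (f := trH M fs q) _ _ _
  have hR : ∀ n η, R (Module.DirectLimit.of B ℕ GB (trH M' (fs.map σ) q) n η) =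
      Module.DirectLimit.of A ℕ GA (trH M fs q) n ((e n).symm η) := fun n η =>
    Module.DirectLimit.lift_of (R := B) (G := GB) (f := trH M' (fs.map σ) q) _ _ _
  exact ⟨{ L.toAddMonoidHom with
    invFun := R
    left_inv := fun w => by
      obtain ⟨n, η, rfl⟩ := Module.DirectLimit.exists_of w
      show R (L _) = _
      rw [hL, hR, AddEquiv.symm_apply_apply]
    right_inv := fun w => by
      obtain ⟨n, η, rfl⟩ := Module.DirectLimit.exists_of w
      show L (R _) = _
      rw [hR, hL, AddEquiv.apply_symm_apply] }⟩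

theorem nonempty_koszulHLim_addEquiv (p : ℕ) :
    Nonempty (CohIII.koszulHLim fs M p ≃+ CohIII.koszulHLim (fs.map σ) M' p) := by
  suffices H : ∀ q' : ℤ, q' = (p : ℤ) - fs.length →
      Nonempty (Module.DirectLimit (fun n : ℕ => ((K M (pw fs n)).homology ((p : ℤ) - fs.length) : Type u))
          (trH M fs ((p : ℤ) - fs.length)) ≃+
        Module.DirectLimit (fun n : ℕ => ((K M' (pw (fs.map σ) n)).homology q' : Type u)) (trH M' (fs.map σ) q')) from
    H ((p : ℤ) - (fs.map σ).length) (by rw [List.length_map])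
  rintro q' rfl
  exact nonempty_lim_addEquiv σ M M' g hg fs _

end

end Groth.Agent.KoszulTransp8
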